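import Groth.Agent.L24.SB.HomBase
import Groth.Agent.L19.LimMod.Lift
import Groth.Agent.L16.CohKernel
import Groth.Agent.L05.Prufer.Vanishing
import Groth.Agent.L15.Ref.Reflexive
import Groth.Prelude.Def_W4c1astiltbs12AS
import Mathlib.FieldTheory.IntermediateField.Adjoin.Basic

/-!
# Coherent modules on an algebraic base change of a proper scheme live at a finite level
-/

set_option autoImplicit false
set_option linter.style.haveILetI false
set_option backward.isDefEq.respectTransparency false
set_option backward.isDefEq.respectTransparency.types false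

universe u

open CategoryTheory CategoryTheory.Limits AlgebraicGeometry
open W4c1astiltbs12

noncomputable section

namespace Groth.L29.GalDesc

variable {k : Type u} [Field k] {X : Scheme.{u}} (p : X ⟶ Spec (CommRingCat.of k)) [IsProper p]
  {K : Type u} [Field K] [Algebra k K]

instance bcOver (L : Type u) [Field L] [Algebra k L] :
    (W4bk4gw11416.baseChange p L).Over (Spec (CommRingCat.of L)) := ⟨W4bk4gw11416.baseChangeTo p L⟩

/-- The map between base changes. -/
def trans (L : Type u) [Field L] [Algebra k L] (φ : L →ₐ[k] K) :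
    W4bk4gw11416.baseChange p K ⟶ W4bk4gw11416.baseChange p L :=
  pullback.lift (proj p K) (W4bk4gw11416.baseChangeTo p K ≫ Spec.map (CommRingCat.ofHom φ.toRingHom)) (by
    rw [Category.assoc, ← Spec.map_comp, ← CommRingCat.ofHom_comp, AlgHom.toRingHom_eq_coe, φ.comp_algebraMap]
    exact pullback.condition)

theorem trans_proj (L : Type u) [Field L] [Algebra k L] (φ : L →ₐ[k] K) : trans p L φ ≫ proj p L = proj p K :=
  pullback.lift_fst _ _ _

theorem isPullback_proj (L : Type u) [Field L] [Algebra k L] :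
    letI : X.Over (Spec (CommRingCat.of k)) := ⟨p⟩
    IsPullback (proj p L) (W4bk4gw11416.baseChange p L ↘ Spec (CommRingCat.of L))
      (X ↘ Spec (CommRingCat.of k)) (Spec.map (CommRingCat.ofHom (algebraMap k L))) :=
  IsPullback.of_hasPullback p (Spec.map (CommRingCat.ofHom (algebraMap k L)))

theorem isPullback_trans (L : Type u) [Field L] [Algebra k L] (φ : L →ₐ[k] K) :
    IsPullback (trans p L φ) (W4bk4gw11416.baseChange p K ↘ Spec (CommRingCat.of K))
      (W4bk4gw11416.baseChange p L ↘ Spec (CommRingCat.of L)) (Spec.map (CommRingCat.ofHom φ.toRingHom)) := by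
  letI : X.Over (Spec (CommRingCat.of k)) := ⟨p⟩
  refine IsPullback.of_right ?_ (pullback.lift_snd _ _ _) (isPullback_proj p L)
  rw [trans_proj p L φ, ← Spec.map_comp, ← CommRingCat.ofHom_comp, AlgHom.toRingHom_eq_coe, φ.comp_algebraMap]
  exact isPullback_proj p K

/-- A coherent module on the base change is defined over every intermediate field containing finitely many
scalars. -/
theorem exists_level [Algebra.IsAlgebraic k K] (W : (W4bk4gw11416.baseChange p K).Modules) (hW : Coh.IsCoh W) :
    ∃ S : Finset K, ∀ L : IntermediateField k K, (S : Set K) ⊆ L →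
      ∃ W₀ : (W4bk4gw11416.baseChange p L).Modules, Coh.IsCoh W₀ ∧
        Nonempty ((Scheme.Modules.pullback (trans p L L.val)).obj W₀ ≅ W) := by
  classical
  letI : X.Over (Spec (CommRingCat.of k)) := ⟨p⟩
  haveI : IsProper (X ↘ Spec (CommRingCat.of k)) := ‹IsProper p›
  haveI : CompactSpace X := QuasiCompact.compactSpace_of_compactSpace (X ↘ Spec (CommRingCat.of k))
  haveI : QuasiSeparatedSpace X := quasiSeparatedSpace_of_quasiSeparated (X ↘ Spec (CommRingCat.of k))
  haveI : IsLocallyNoetherian X := LocallyOfFiniteType.isLocallyNoetherian (X ↘ Spec (CommRingCat.of k))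
  have sq := isPullback_proj p K
  haveI : IsProper (W4bk4gw11416.baseChange p K ↘ Spec (CommRingCat.of K)) :=
    MorphismProperty.of_isPullback (P := @IsProper) sq inferInstance
  haveI : IsLocallyNoetherian (W4bk4gw11416.baseChange p K) :=
    LocallyOfFiniteType.isLocallyNoetherian (W4bk4gw11416.baseChange p K ↘ Spec (CommRingCat.of K))
  haveI : IsAffineHom (proj p K) := Groth.L24.GalPush.isAffineHom_sq (algebraMap k K) (proj p K) sq
  let g := proj p K
  obtain ⟨H₁, q₁, hH₁, hq₁⟩ := Groth.L19.LimMod.exists_pull_epi g W hW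
  have hH₁c : Coh.IsCoh H₁ := ⟨Groth.L05.Prufer.isQCoh_of_isFP hH₁, Groth.L19.LimMod.isFT_of_isFP hH₁⟩
  have hK₁ : Coh.IsCoh (kernel q₁) :=
    (Groth.L16.CohKernel.isCoh_kernel_cokernel (Groth.L19.LimMod.isCoh_pullback' g hH₁c) hW q₁).1
  obtain ⟨H₂, q₂, hH₂, hq₂⟩ := Groth.L19.LimMod.exists_pull_epi g (kernel q₁) hK₁
  have hH₂c : Coh.IsCoh H₂ := ⟨Groth.L05.Prufer.isQCoh_of_isFP hH₂, Groth.L19.LimMod.isFT_of_isFP hH₂⟩
  let f := q₂ ≫ kernel.ι q₁
  obtain ⟨n, α, c, hf⟩ := Groth.L24.KrullSchmidt.exists_sum_map_coh g sq hH₂c hH₁c f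
  have eW : Nonempty (cokernel f ≅ W) :=
    ⟨cokernelEpiComp q₂ (kernel.ι q₁) ≪≫
      (cokernelIsCokernel (kernel.ι q₁)).coconePointUniqueUpToIso
        ((ShortComplex.exact_of_f_is_kernel (ShortComplex.mk _ q₁ (kernel.condition q₁)) (kernelIsKernel q₁)).gIsCokernel)⟩
  refine ⟨Finset.univ.image c, fun L hL => ?_⟩
  let t := trans p L L.val
  let g₀ := proj p L
  haveI : IsProper (W4bk4gw11416.baseChange p L ↘ Spec (CommRingCat.of L)) :=
    MorphismProperty.of_isPullback (P := @IsProper) (isPullback_proj p L) inferInstance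
  haveI : IsLocallyNoetherian (W4bk4gw11416.baseChange p L) :=
    LocallyOfFiniteType.isLocallyNoetherian (W4bk4gw11416.baseChange p L ↘ Spec (CommRingCat.of L))
  let c₀ : Fin n → L := fun j => ⟨c j, hL (Finset.mem_image_of_mem c (Finset.mem_univ j))⟩
  let f₀ : (Scheme.Modules.pullback g₀).obj H₂ ⟶ (Scheme.Modules.pullback g₀).obj H₁ :=
    ∑ j, c₀ j • (Scheme.Modules.pullback g₀).map (α j)
  haveI := (Scheme.Modules.pullbackPushforwardAdjunction t).left_adjoint_additive
  haveI := (Scheme.Modules.pullbackPushforwardAdjunction t).leftAdjoint_preservesColimits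
  let ε := Scheme.Modules.pullbackComp t g₀ ≪≫ Scheme.Modules.pullbackCongr (trans_proj p L L.val)
  have hsq : (Scheme.Modules.pullback t).map f₀ ≫ ε.hom.app H₁ = ε.hom.app H₂ ≫ f := by
    rw [hf, Preadditive.comp_sum, Functor.map_sum, Preadditive.sum_comp]
    refine Finset.sum_congr rfl fun j _ => ?_
    rw [Groth.L24.SB.pullback_map_smul (k := L) (K := K) t (isPullback_trans p L L.val) (c₀ j),
      Linear.smul_comp, Linear.comp_smul]
    exact congrArg (c j • ·) (ε.hom.naturality (α j))
  refine ⟨cokernel f₀, (Groth.L16.CohKernel.isCoh_kernel_cokernel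
    (Groth.L19.LimMod.isCoh_pullback' g₀ hH₂c) (Groth.L19.LimMod.isCoh_pullback' g₀ hH₁c) f₀).2, ?_⟩
  exact ⟨PreservesCokernel.iso (Scheme.Modules.pullback t) f₀ ≪≫
    cokernel.mapIso _ _ (ε.app H₂) (ε.app H₁) hsq ≪≫ eW.some⟩

end Groth.L29.GalDesc
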