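import Groth.Agent.L24.GalPush.Main

/-!
# The pullback of the pushforward of a bundle along a split field extension
-/

set_option autoImplicit false
set_option linter.style.haveILetI false
set_option backward.isDefEq.respectTransparency false
set_option backward.isDefEq.respectTransparency.types false

universe u

open CategoryTheory CategoryTheory.Limits AlgebraicGeometry TopologicalSpace Opposite
open scoped TensorProduct
open Groth.L18.Frame (rs ro pull rs_self rs_smul ro_ro)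
open Groth.L16.AffineBC (scal)

noncomputable section

namespace Groth.L29.GalDesc

open Groth.L24.GalPush

variable {k K₀ K : Type u} [Field k] [Field K₀] [Field K] [Algebra k K₀] [Algebra k K] {X X₀ Y : Scheme.{u}}
  [X.Over (Spec (CommRingCat.of k))] [X₀.Over (Spec (CommRingCat.of K₀))] [Y.Over (Spec (CommRingCat.of K))]
  (π₀ : X₀ ⟶ X) (sq₀ : IsPullback π₀ (X₀ ↘ Spec (CommRingCat.of K₀)) (X ↘ Spec (CommRingCat.of k))
    (Spec.map (CommRingCat.ofHom (algebraMap k K₀))))
  (π : Y ⟶ X) (sq : IsPullback π (Y ↘ Spec (CommRingCat.of K)) (X ↘ Spec (CommRingCat.of k))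
    (Spec.map (CommRingCat.ofHom (algebraMap k K))))
  {d : ℕ} (a : Module.Basis (Fin d) k K₀) (σ : Fin d → (K₀ →ₐ[k] K)) (hσ : Function.Injective σ)
  (t : Fin d → (Y ⟶ X₀)) (ht : ∀ i, t i ≫ π₀ = π)
  (sqt : ∀ i, IsPullback (t i) (Y ↘ Spec (CommRingCat.of K)) (X₀ ↘ Spec (CommRingCat.of K₀))
    (Spec.map (CommRingCat.ofHom (σ i).toRingHom)))

include sq₀ sq a hσ ht sqt in
/-- The pullback of the pushforward of a finite locally free module is the sum of its conjugates. -/
theorem nonempty_pullback_push [IsLocallyNoetherian Y] (L₀ : X₀.Modules) (hLf : FlatMod.IsFinLocFree L₀) :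
    Nonempty ((Scheme.Modules.pullback π).obj ((Scheme.Modules.pushforward π₀).obj L₀) ≅
      ∐ fun i => (Scheme.Modules.pullback (t i)).obj L₀) := by
  classical
  haveI : Coh.IsQCoh L₀ := Groth.L29.DC.PCQCoh.isQCoh_of_isFinLocFree hLf
  haveI := isAffineHom_sq (algebraMap k K₀) π₀ sq₀
  haveI := isAffineHom_sq (algebraMap k K) π sq
  let W₀ := (Scheme.Modules.pushforward π₀).obj L₀
  haveI : Coh.IsQCoh W₀ := Groth.L18.DirImg.isQCoh_push π₀ L₀ ‹_›
  haveI : Coh.IsQCoh ((Scheme.Modules.pullback π).obj W₀) := Groth.L16.AffineBC.isQCoh_pullback π W₀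
  let N : Fin d → Y.Modules := fun i => (Scheme.Modules.pullback (t i)).obj L₀
  haveI : Coh.IsQCoh (∐ N) := (Groth.L16.NegPow.isCoh_of_isFinLocFree
    (Groth.L29.DC.isFinLocFree_coprod_fin d N fun i => Groth.L29.LocFree.pullback (t i) hLf)).1
  choose c hc using fun i => exists_comp_hom π₀ (t i) π (ht i) L₀
  let Φ : (Scheme.Modules.pullback π).obj W₀ ⟶ ∐ N := ∑ i, c i ≫ Sigma.ι N i
  suffices h : IsIso Φ by exact ⟨asIso Φ⟩
  refine Groth.L07.ModBij.isIso_of_affine_cover Φ fun y => ?_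
  obtain ⟨_, ⟨U, hU, rfl⟩, hyU, -⟩ :=
    X.isBasis_affineOpens.exists_subset_of_mem_open (a := π y) (Set.mem_univ _) isOpen_univ
  change X.Opens at U
  replace hU : IsAffineOpen U := hU
  let V := π ⁻¹ᵁ U
  refine ⟨V, hU.preimage π, hyU, ?_⟩
  have hV : ∀ i, V = t i ⁻¹ᵁ (π₀ ⁻¹ᵁ U) := fun i => by
    show π ⁻¹ᵁ U = _
    rw [← ht i]
    rfl
  -- the linear structures
  letI : Module k Γ(W₀, U) := Module.compHom Γ(W₀, U) (scal k X U)
  letI : Module K₀ Γ(W₀, U) := Module.compHom Γ(L₀, π₀ ⁻¹ᵁ U) (scal K₀ X₀ (π₀ ⁻¹ᵁ U))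
  haveI : IsScalarTower k K₀ Γ(W₀, U) := IsScalarTower.of_algebraMap_smul fun r m => by
    show scal K₀ X₀ (π₀ ⁻¹ᵁ U) (algebraMap k K₀ r) • (show Γ(L₀, π₀ ⁻¹ᵁ U) from m) =
      π₀.app U (scal k X U r) • (show Γ(L₀, π₀ ⁻¹ᵁ U) from m)
    exact congrArg (· • (show Γ(L₀, π₀ ⁻¹ᵁ U) from m))
      (ConcreteCategory.congr_hom (isPushout_sq (algebraMap k K₀) π₀ sq₀ hU).w r).symm
  letI : ∀ i, Module K Γ(N i, V) := fun i => Module.compHom Γ(N i, V) (scal K Y V)
  have hsf := fun i => span_free_pull (σ i).toRingHom (t i) (sqt i) L₀ (hU.preimage π₀) V (hV i)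
  let ι : ∀ i, Γ(W₀, U) →+ Γ(N i, V) := fun i =>
    AddMonoidHom.mk' (fun m => rs (N i) (hV i).le (pull (t i) L₀ (π₀ ⁻¹ᵁ U) m)) fun m m' => by
      exact (congrArg (rs (N i) (hV i).le) (map_add (((Scheme.Modules.pullbackPushforwardAdjunction (t i)).unit.app L₀).app
        (π₀ ⁻¹ᵁ U)).hom m m')).trans (map_add _ _ _)
  obtain ⟨E, hE⟩ := exists_equiv_sq (algebraMap k K) π sq rfl W₀ hU
  let Ψ : K ⊗[k] Γ(W₀, U) →+ (∀ i, Γ(N i, V)) :=
    AddMonoidHom.mk' (fun z i => (c i).app V (E z)) fun z z' => funext fun i => by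
      simp only [map_add]
      rfl
  have hΨ : Function.Bijective Ψ := by
    refine bijective_split a σ hσ Γ(W₀, U) (fun i => Γ(N i, V)) ι (fun i r m => (hsf i).1 r m)
      (fun i p => (hsf i).2.1 p) (fun i β b => (hsf i).2.2 β b) Ψ fun i r m => ?_
    show (c i).app V (E (r ⊗ₜ m)) = scal K Y V r • rs (N i) (hV i).le (pull (t i) L₀ (π₀ ⁻¹ᵁ U) m)
    rw [hE, Scheme.Modules.Hom.app_smul, hc i U m (hV i).le]
  have hbij : Function.Bijective fun (x : Γ((Scheme.Modules.pullback π).obj W₀, V)) i => (c i).app V x := by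
    have : (fun (x : Γ((Scheme.Modules.pullback π).obj W₀, V)) i => (c i).app V x) = Ψ ∘ E.symm := by
      funext x i
      show _ = (c i).app V (E (E.symm x))
      rw [E.apply_symm_apply]
    rw [this]
    exact hΨ.comp E.symm.bijective
  -- components of the sum
  let p : ∀ j, ∐ N ⟶ N j := fun j => Sigma.desc fun l => if h : l = j then eqToHom (by rw [h]) else 0
  have hp : ∀ l j, Sigma.ι N l ≫ p j = if h : l = j then eqToHom (by rw [h]) else 0 := fun l j => Sigma.ι_desc _ _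
  have hsum : ∑ j, p j ≫ Sigma.ι N j = 𝟙 (∐ N) := Sigma.hom_ext _ _ fun l => by
    rw [Preadditive.comp_sum, Category.comp_id, Finset.sum_eq_single l]
    · simp [reassoc_of% (hp l l)]
    · intro j _ hj
      simp [reassoc_of% (hp l j), dif_neg (Ne.symm hj)]
    · exact fun hl => absurd (Finset.mem_univ l) hl
  have hΦp : ∀ i, Φ ≫ p i = c i := fun i => by
    simp only [Φ, Preadditive.sum_comp, Category.assoc]
    rw [Finset.sum_eq_single i]
    · rw [hp, dif_pos rfl, eqToHom_refl, Category.comp_id]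
    · intro l _ hl
      simp [hp, dif_neg hl]
    · simp
  have hcomp : ∀ x i, (p i).app V (Φ.app V x) = (c i).app V x := fun x i => by
    rw [← hΦp i]
    rfl
  have hrec : ∀ z : Γ(∐ N, V), z = ∑ j, (Sigma.ι N j).app V ((p j).app V z) := fun z => by
    let ev : (∐ N ⟶ ∐ N) →+ Γ(∐ N, V) := AddMonoidHom.mk' (fun q => q.app V z) fun q q' => by
      simp only [Scheme.Modules.Hom.add_app]
      rfl
    have h := congrArg ev hsum
    rw [map_sum] at h
    exact h.symm
  refine ⟨fun x x' hxx => hbij.1 (funext fun i => ?_), fun z => ?_⟩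
  · show (c i).app V x = (c i).app V x'
    rw [← hcomp, ← hcomp, hxx]
  · obtain ⟨x, hx⟩ := hbij.2 fun i => (p i).app V z
    refine ⟨x, ?_⟩
    rw [hrec z, hrec (Φ.app V x)]
    refine Finset.sum_congr rfl fun j _ => congrArg _ ?_
    rw [hcomp]
    exact congrFun hx j

end Groth.L29.GalDesc
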