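import Groth.Agent.L29.GalDesc.Descend
import Groth.Agent.L29.GalDesc.PushFin
import Groth.Agent.L24.GalPush.Existence
import Groth.Agent.L24.KrullSchmidt.Connected
import Mathlib.FieldTheory.IsSepClosed
import Mathlib.FieldTheory.Normal.Closure
import Mathlib.FieldTheory.Galois.Basic

/-!
# Galois invariant indecomposable bundles are types of indecomposable bundles
-/

set_option autoImplicit false
set_option linter.style.haveILetI false
set_option backward.isDefEq.respectTransparency false
set_option backward.isDefEq.respectTransparency.types false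

universe u

open CategoryTheory CategoryTheory.Limits AlgebraicGeometry
open W4c1astiltbs12
open Groth.L24.KrullSchmidt (Indec)

noncomputable section

namespace Groth.L29.GalDesc

variable {k : Type u} [Field k] {X : Scheme.{u}} (p : X ⟶ Spec (CommRingCat.of k)) [IsProper p]
  {K : Type u} [Field K] [Algebra k K] [IsSepClosure k K]

theorem galAct_trans (L : IntermediateField k K) (σ : K ≃ₐ[k] K) :
    galAct p K σ ≫ trans p L L.val = trans p L (σ.toAlgHom.comp L.val) := by
  refine pullback.hom_ext ?_ ?_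
  · simp only [Category.assoc, galAct, trans]
    rw [pullback.lift_fst, pullback.lift_fst]
    simp
  · simp only [Category.assoc, galAct, trans]
    rw [pullback.lift_snd, pullback.lift_snd]
    simp only [pullback.map, pullback.lift_snd_assoc, Category.assoc, ← Spec.map_comp]
    rfl

/-- An invariant indecomposable bundle on the separable closure is the type of an indecomposable bundle. -/
theorem exists_indec_type {W : (W4bk4gw11416.baseChange p K).Modules} (hW : FlatMod.IsFinLocFree W)
    (hWi : Indec W) (hinv : ∀ σ : K ≃ₐ[k] K, Nonempty ((Scheme.Modules.pullback (galAct p K σ)).obj W ≅ W)) :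
    ∃ (M : X.Modules) (r : ℕ), FlatMod.IsFinLocFree M ∧ Indec M ∧ 0 < r ∧ Nonempty (bcMod p K M ≅ pow W r) := by
  classical
  letI : X.Over (Spec (CommRingCat.of k)) := ⟨p⟩
  haveI : IsProper (X ↘ Spec (CommRingCat.of k)) := ‹IsProper p›
  haveI : IsGalois k K := IsSepClosure.isGalois (K := K)
  have sq := isPullback_proj p K
  haveI : IsProper (W4bk4gw11416.baseChange p K ↘ Spec (CommRingCat.of K)) :=
    MorphismProperty.of_isPullback (P := @IsProper) sq inferInstance
  haveI : Flat (proj p K) := MorphismProperty.of_isPullback (P := @Flat) sq.flip (Groth.L03.ShStab.BC.flat_specMap K)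
  haveI : Surjective (proj p K) :=
    MorphismProperty.of_isPullback (P := @Surjective) sq.flip (Groth.L03.ShStab.BC.surjective_specMap K)
  haveI : IsAffineHom (proj p K) := Groth.L24.GalPush.isAffineHom_sq (algebraMap k K) (proj p K) sq
  haveI : IsLocallyNoetherian (W4bk4gw11416.baseChange p K) :=
    LocallyOfFiniteType.isLocallyNoetherian (W4bk4gw11416.baseChange p K ↘ Spec (CommRingCat.of K))
  obtain ⟨S, hS⟩ := exists_level p W (Groth.L16.NegPow.isCoh_of_isFinLocFree hW)
  let L1 := IntermediateField.adjoin k (S : Set K)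
  haveI : FiniteDimensional k L1 :=
    IntermediateField.finiteDimensional_adjoin fun x _ => Algebra.IsIntegral.isIntegral x
  let L : IntermediateField k K := IntermediateField.normalClosure k L1 K
  haveI : IsGalois k L := IsGalois.mk
  have hSL : (S : Set K) ⊆ L := (IntermediateField.subset_adjoin k _).trans (L1.le_normalClosure)
  obtain ⟨W₀, hW₀c, ⟨e₀⟩⟩ := hS L hSL
  have sq₀ := isPullback_proj p L
  haveI : IsAffineHom (proj p L) := Groth.L24.GalPush.isAffineHom_sq (algebraMap k L) (proj p L) sq₀
  haveI : Flat (trans p L L.val) :=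
    MorphismProperty.of_isPullback (P := @Flat) (isPullback_trans p L L.val).flip
      (letI := L.val.toRingHom.toAlgebra; Groth.L03.ShStab.BC.flat_specMap (k := L) K)
  haveI : Surjective (trans p L L.val) :=
    MorphismProperty.of_isPullback (P := @Surjective) (isPullback_trans p L L.val).flip
      (letI := L.val.toRingHom.toAlgebra; Groth.L03.ShStab.BC.surjective_specMap (k := L) K)
  haveI : IsAffineHom (trans p L L.val) :=
    Groth.L24.GalPush.isAffineHom_sq L.val.toRingHom (trans p L L.val) (isPullback_trans p L L.val)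
  haveI : Coh.IsQCoh W₀ := hW₀c.1
  have hW₀ : FlatMod.IsFinLocFree W₀ :=
    Groth.L19.PullChart.isFinLocFree_of_pullback (trans p L L.val) W₀ (Groth.L29.LocFree.of_iso e₀.symm hW)
  have hcard : Fintype.card (L ≃ₐ[k] L) = Module.finrank k L := by
    rw [← Nat.card_eq_fintype_card, IsGalois.card_aut_eq_finrank]
  let τ : Fin (Module.finrank k L) → (L ≃ₐ[k] L) := (Fintype.equivFinOfCardEq hcard).symm
  let σ' : Fin (Module.finrank k L) → (K ≃ₐ[k] K) := fun i => (τ i).liftNormal K
  let σ : Fin (Module.finrank k L) → (L →ₐ[k] K) := fun i => (σ' i).toAlgHom.comp L.val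
  have hσ : Function.Injective σ := fun i j h => (Fintype.equivFinOfCardEq hcard).symm.injective (AlgEquiv.ext fun x => by
    refine L.val.toRingHom.injective ?_
    have h1 := DFunLike.congr_fun h x
    exact ((τ i).liftNormal_commutes K x).symm.trans (h1.trans ((τ j).liftNormal_commutes K x)))
  obtain ⟨c⟩ := nonempty_pullback_push (proj p L) sq₀ (proj p K) sq (Module.finBasis k L) σ hσ
    (fun i => trans p L (σ i)) (fun i => trans_proj p L (σ i)) (fun i => isPullback_trans p L (σ i)) W₀ hW₀
  let c' : (Scheme.Modules.pullback (proj p K)).obj ((Scheme.Modules.pushforward (proj p L)).obj W₀) ≅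
      ∐ fun _ : Fin (Module.finrank k L) => W :=
    c ≪≫ Limits.Sigma.mapIso fun i =>
      (Scheme.Modules.pullbackCongr (galAct_trans p L (σ' i)).symm).app W₀ ≪≫
        ((Scheme.Modules.pullbackComp (galAct p K (σ' i)) (trans p L L.val)).app W₀).symm ≪≫
        (Scheme.Modules.pullback (galAct p K (σ' i))).mapIso e₀ ≪≫ (hinv (σ' i)).some
  haveI : Coh.IsQCoh ((Scheme.Modules.pushforward (proj p L)).obj W₀) :=
    Groth.L18.DirImg.isQCoh_push (proj p L) W₀ ‹_›
  have hW' : FlatMod.IsFinLocFree ((Scheme.Modules.pushforward (proj p L)).obj W₀) :=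
    Groth.L19.PullChart.isFinLocFree_of_pullback (proj p K) _
      (Groth.L29.LocFree.of_iso c'.symm (Groth.L29.DC.isFinLocFree_coprod_fin _ _ fun _ => hW))
  have hW0 : ¬ IsZero ((Scheme.Modules.pushforward (proj p L)).obj W₀) := fun h => hWi.1 (by
    obtain ⟨s, q, hsq⟩ := Groth.L24.KrullSchmidt.isRetract_member
      (fun _ : Fin (Module.finrank k L) => W) ⟨0, Module.finrank_pos⟩
    have h' := (IsZero.iff_id_eq_zero _).1 (((Scheme.Modules.pullback (proj p K)).map_isZero h).of_iso c'.symm)
    refine (IsZero.iff_id_eq_zero _).2 ?_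
    rw [← hsq, ← Category.comp_id s, h', Limits.comp_zero, Limits.zero_comp])
  obtain ⟨M, r, hM, hMi, ⟨w⟩⟩ := Groth.L24.KrullSchmidt.exists_indec_type k K (proj p K) hWi hW hW' hW0 c'
  refine ⟨M, r, hM, hMi, Nat.pos_of_ne_zero fun hr => hMi.1 ?_, ⟨w⟩⟩
  subst hr
  exact Groth.L03.ShStab.BC.isZero_of_pullback (proj p K)
    (((IsZero.iff_id_eq_zero _).2 (Sigma.hom_ext _ _ fun i => i.elim0)).of_iso w)

/-- An indecomposable bundle splitting into invariant invertible summands is isotypical. -/
theorem isotypical_of_split [ConnectedSpace ↥(W4bk4gw11416.baseChange p K)] {M : X.Modules}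
    (hM : FlatMod.IsFinLocFree M) (hMi : Indec M) {n : ℕ} (Ls : Fin n → (W4bk4gw11416.baseChange p K).Modules)
    (hLs : ∀ i, PicF.IsInvertible (Ls i))
    (hinv : ∀ (σ : K ≃ₐ[k] K) (i : Fin n), Nonempty ((Scheme.Modules.pullback (galAct p K σ)).obj (Ls i) ≅ Ls i))
    (e : Nonempty (bcMod p K M ≅ ∐ Ls)) :
    ∃ (L : (W4bk4gw11416.baseChange p K).Modules) (r : ℕ), PicF.IsInvertible L ∧ 0 < r ∧
      Nonempty (bcMod p K M ≅ pow L r) ∧
      ∀ (L' : (W4bk4gw11416.baseChange p K).Modules) (r' : ℕ), PicF.IsInvertible L' →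
        Nonempty (bcMod p K M ≅ pow L' r') → Nonempty (L' ≅ L) := by
  classical
  letI : X.Over (Spec (CommRingCat.of k)) := ⟨p⟩
  haveI : IsProper (X ↘ Spec (CommRingCat.of k)) := ‹IsProper p›
  have sq := isPullback_proj p K
  haveI : IsProper (W4bk4gw11416.baseChange p K ↘ Spec (CommRingCat.of K)) :=
    MorphismProperty.of_isPullback (P := @IsProper) sq inferInstance
  haveI : Surjective (proj p K) :=
    MorphismProperty.of_isPullback (P := @Surjective) sq.flip (Groth.L03.ShStab.BC.surjective_specMap K)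
  haveI : Flat (proj p K) := MorphismProperty.of_isPullback (P := @Flat) sq.flip (Groth.L03.ShStab.BC.flat_specMap K)
  obtain ⟨e⟩ := e
  have hi : ∀ (L : (W4bk4gw11416.baseChange p K).Modules), PicF.IsInvertible L → Indec L := fun L hL => by
    obtain ⟨L', -, ⟨t⟩⟩ := Groth.L08.Cube.exists_inverse hL
    exact Groth.L24.KrullSchmidt.indec_of_connected t
  have hn : 0 < n := Nat.pos_of_ne_zero fun h => hMi.1 (by
    subst h
    exact Groth.L03.ShStab.BC.isZero_of_pullback (proj p K)
      (((IsZero.iff_id_eq_zero _).2 (Sigma.hom_ext _ _ fun i => i.elim0)).of_iso e))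
  let i₀ : Fin n := ⟨0, hn⟩
  have hLf := fun i => Groth.L16.Existence.isFinLocFree_of_isInvertible (hLs i)
  obtain ⟨M₀, r, hM₀, hM₀i, hr, ⟨w⟩⟩ := exists_indec_type p (hLf i₀) (hi _ (hLs i₀)) fun σ => hinv σ i₀
  obtain ⟨v⟩ := Groth.L24.KrullSchmidt.nonempty_iso_of_split (proj p K) sq hM hM₀ hMi hM₀i i₀ e w
  refine ⟨Ls i₀, r, hLs i₀, hr, ⟨(Scheme.Modules.pullback (proj p K)).mapIso v ≪≫ w⟩, fun L' r' hL' ⟨e'⟩ => ?_⟩
  exact ⟨(Groth.L24.KrullSchmidt.nonempty_iso_type (K := K) (hi _ (hLs i₀)) (hi _ hL') (hLf i₀)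
    (Groth.L16.Existence.isFinLocFree_of_isInvertible hL') hr
    (w.symm ≪≫ ((Scheme.Modules.pullback (proj p K)).mapIso v).symm ≪≫ e')).some.symm⟩

end Groth.L29.GalDesc
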